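import Cfsg.Agent.H727.GW.Sp
import Cfsg.Agent.H397.GW.NumSmall

/-!
# TEAM GW: [S5'] `small5'`
-/

set_option autoImplicit false
set_option linter.unusedSectionVars false
set_option linter.style.haveILetI false

namespace Cfsg.Agent.H724.GW

open Module
open Cfsg.Agent.LieClassical.SympCount
open Cfsg.Agent.H662.GW Cfsg.Agent.H727.GW

section glueHom

universe u v

variable {F : Type u} [Field F] {V : Type v} [AddCommGroup V] [Module F V]
  {B : LinearMap.BilinForm F V} [FiniteDimensional F V]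

theorem glue_mul (hB : ∀ x, B x x = 0) (C : Submodule F V)
    (hC : ∀ c ∈ C, (∀ c' ∈ C, B c c' = 0) → c = 0) (f g : C ≃ₗ[F] C) :
    glue hB C hC (f * g) = glue hB C hC f * glue hB C hC g := by
  apply LinearEquiv.ext
  intro v
  obtain ⟨c, d, hd, rfl⟩ := exists_decomp hB C hC v
  rw [LinearEquiv.mul_apply, glue_apply _ _ _ _ _ _ hd, glue_apply _ _ _ _ _ _ hd,
    glue_apply _ _ _ _ _ _ hd, LinearEquiv.mul_apply]

/-- The order of the isometry group of the fixed space divides that of the centralizer. -/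
theorem card_fix_dvd_centralizer [Finite V] (hB : ∀ x, B x x = 0)
    (hnd : ∀ x, (∀ y, B x y = 0) → x = 0)
    {x : V ≃ₗ[F] V} (hx : x ∈ isomGroup B) {p : ℕ} (hp : (p : F) ≠ 0) (hxp : x ^ p = 1) :
    Nat.card (isomGroup (B.restrict (fixS x))) ∣
      Nat.card (Subgroup.centralizer ({(⟨x, hx⟩ : isomGroup B)} : Set (isomGroup B))) := by
  have hC := nondeg_fix hnd hx hp hxp
  have : Finite (V ≃ₗ[F] V) := Finite.of_injective (fun e : V ≃ₗ[F] V => (e : V → V)) DFunLike.coe_injective
  let Φ : isomGroup (B.restrict (fixS x)) →*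
      Subgroup.centralizer ({(⟨x, hx⟩ : isomGroup B)} : Set (isomGroup B)) := MonoidHom.mk' (fun t =>
    ⟨⟨glue hB (fixS x) hC t.1, glue_mem hB (fixS x) hC t.2⟩, by
        rw [Subgroup.mem_centralizer_singleton_iff]
        apply Subtype.ext
        exact glue_comm hB hnd hx hp hxp t.1⟩) (by
      intro f g
      apply Subtype.ext
      apply Subtype.ext
      exact glue_mul hB (fixS x) hC f.1 g.1)
  refine Subgroup.card_dvd_of_injective Φ ?_
  intro f g h
  have h2 : glue hB (fixS x) hC f.1 = glue hB (fixS x) hC g.1 :=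
    congrArg (fun t : Subgroup.centralizer ({(⟨x, hx⟩ : isomGroup B)} : Set (isomGroup B)) =>
      ((t : isomGroup B) : V ≃ₗ[F] V)) h
  apply Subtype.ext
  apply LinearEquiv.ext
  intro c
  have h4 := congrArg (fun e : V ≃ₗ[F] V => e (c : V)) h2
  have h5 := glue_apply hB (fixS x) hC f.1 c 0 (zero_mem _)
  have h6 := glue_apply hB (fixS x) hC g.1 c 0 (zero_mem _)
  rw [add_zero, add_zero] at h5 h6
  simp only [h5, h6] at h4
  exact Subtype.ext h4

end glueHom

/-- If a Sylow `p`-subgroup has order `p ^ 2` then `p ^ 2` divides the order of the centralizer of any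
element of order `p`. -/
theorem sq_dvd_centralizer {G : Type*} [Group G] [Finite G] {p : ℕ} (hp : p.Prime) (h2 : p ^ 2 ∣ Nat.card G)
    (h3 : ¬ p ^ 3 ∣ Nat.card G) (x : G) (hx : orderOf x = p) :
    p ^ 2 ∣ Nat.card (Subgroup.centralizer ({x} : Set G)) := by
  haveI := Fact.mk hp
  have h4 : IsPGroup p (Subgroup.zpowers x) := by
    rw [IsPGroup.iff_card]
    exact ⟨1, by rw [Nat.card_zpowers, hx, pow_one]⟩
  obtain ⟨P, hP⟩ := h4.exists_le_sylow
  have h5 := P.pow_dvd_card_of_pow_dvd_card h2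
  obtain ⟨k, hk⟩ := (IsPGroup.iff_card).1 P.2
  have h6 : Nat.card P ∣ Nat.card G := Subgroup.card_subgroup_dvd_card _
  have h7 : Nat.card P = p ^ 2 := by
    have hk2 : Nat.card P = p ^ k := hk
    rw [hk2] at h5 h6 ⊢
    have h8 : 2 ≤ k := (Nat.pow_dvd_pow_iff_le_right hp.one_lt).1 h5
    have h9 : ¬ 3 ≤ k := fun h => h3 ((pow_dvd_pow p h).trans h6)
    rw [show k = 2 by omega]
  have hxP : x ∈ (P : Subgroup G) := hP (Subgroup.mem_zpowers x)
  have h8 : (P : Subgroup G) ≤ Subgroup.centralizer ({x} : Set G) := by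
    intro y hy
    rw [Subgroup.mem_centralizer_singleton_iff]
    have h9 := IsPGroup.commutative_of_card_eq_prime_sq (G := P) h7 ⟨y, hy⟩ ⟨x, hxP⟩
    exact congrArg Subtype.val h9
  rw [← h7]
  exact Subgroup.card_dvd_of_le h8

section
variable {n j : ℕ} {Y U : Type*} [Group Y] [Finite Y] [AddCommGroup U] [Finite U]
  [DistribMulAction Y U] {X : Subgroup Y} {x : Y} {B : U → U → ZMod 2}

/-- class size bound, `n = 5`, `j = 4` -/
theorem index_mul_le_five_four (h : SA (U := U) 5 2 5 4 X x B) :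
    (Subgroup.centralizer ({x} : Set Y)).index * 150 ≤ 24815256521932800 := by
  haveI := Fact.mk h.hs
  obtain ⟨M, B', ρ, h1, -, h2, h3, h4, h5⟩ := setup B h.faith h.exp h.card h.addl h.addr h.alt h.nd h.inv
  have hx : (ρ x : U ≃ₗ[ZMod 2] U) ∈ isomGroup B' := (ρ x).2
  have hord : orderOf (ρ x : U ≃ₗ[ZMod 2] U) = 5 := by
    rw [Subgroup.orderOf_coe, orderOf_injective _ h2, h.ord]
  have hord' : orderOf (ρ x) = 5 := by
    rw [orderOf_injective _ h2, h.ord]
  have hxp : (ρ x : U ≃ₗ[ZMod 2] U) ^ 5 = 1 := hord ▸ pow_orderOf_eq_one _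
  have hC := nondeg_fix h4 hx (cast_ne h.hp h.hs h.hps) hxp
  have h6 : Nat.card {u : U // x • u = u} = Nat.card (fixS (ρ x : U ≃ₗ[ZMod 2] U)) := by
    refine Nat.card_congr (Equiv.subtypeEquivRight fun u => ?_)
    show x • u = u ↔ (ρ x : U ≃ₗ[ZMod 2] U) u = u
    rw [h5]
  rw [h.fix, Module.natCard_eq_pow_finrank (K := ZMod 2) (V := fixS (ρ x : U ≃ₗ[ZMod 2] U)), Nat.card_zmod] at h6
  have h7 := Nat.pow_right_injective h.hs.two_le h6
  have h10 := card_isomGroup (B'.restrict (fixS (ρ x : U ≃ₗ[ZMod 2] U))) (fun d => h3 d)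
    (fun d hd => Subtype.ext (hC d d.2 fun d' hd' => hd ⟨d', hd'⟩)) h7.symm
  have h11 := card_fix_dvd_centralizer h3 h4 hx (cast_ne h.hp h.hs h.hps) hxp
  have h12 := card_isomGroup B' h3 h4 h1
  rw [ZMod.card] at h10 h12
  have h10' : Nat.card (isomGroup (B'.restrict (fixS (ρ x : U ≃ₗ[ZMod 2] U)))) = 6 := by
    rw [h10]
    simp [Finset.prod_range_succ]
  have h12' : Nat.card (isomGroup B') = 24815256521932800 := by
    rw [h12]
    simp [Finset.prod_range_succ]
  rw [h10'] at h11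
  have : Finite (U ≃ₗ[ZMod 2] U) := Finite.of_injective (fun e : U ≃ₗ[ZMod 2] U => (e : U → U)) DFunLike.coe_injective
  have hx' : (⟨(ρ x : U ≃ₗ[ZMod 2] U), hx⟩ : isomGroup B') = ρ x := rfl
  rw [hx'] at h11
  have h14 := sq_dvd_centralizer (G := isomGroup B') (p := 5) h.hp (by rw [h12']; norm_num)
    (by rw [h12']; norm_num) (ρ x) hord'
  have h15 : 150 ≤ Nat.card (Subgroup.centralizer ({ρ x} : Set (isomGroup B'))) := by
    refine Nat.le_of_dvd Nat.card_pos ?_
    have h16 : Nat.Coprime 6 (5 ^ 2) := by norm_num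
    have h17 := h16.mul_dvd_of_dvd_of_dvd h11 h14
    simpa using h17
  rw [← h12', ← Subgroup.index_mul_card (Subgroup.centralizer ({ρ x} : Set (isomGroup B')))]
  refine Nat.mul_le_mul ?_ h15
  have h13 : Subgroup.centralizer ({x} : Set Y) =
      (Subgroup.centralizer ({ρ x} : Set (isomGroup B'))).comap ρ := by
    ext y
    rw [Subgroup.mem_comap, Subgroup.mem_centralizer_singleton_iff, Subgroup.mem_centralizer_singleton_iff,
      ← map_mul, ← map_mul, h2.eq_iff]
  rw [h13, Subgroup.index_comap]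
  have h14 := Subgroup.relIndex_le_of_le_right (H := Subgroup.centralizer ({ρ x} : Set (isomGroup B')))
    (le_top : ρ.range ≤ ⊤) (by rw [Subgroup.relIndex_top_right]; exact Subgroup.index_ne_zero_of_finite)
  rwa [Subgroup.relIndex_top_right] at h14

/-- the number of fixed points -/
theorem SA.card_modEq {p s : ℕ} {B : U → U → ZMod s} (h : SA (U := U) p s n j X x B) :
    s ^ (2 * n) ≡ s ^ (2 * (n - j)) [MOD p] := by
  haveI := Fact.mk h.hp
  have h4 : IsPGroup p (Subgroup.zpowers x) := by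
    rw [IsPGroup.iff_card]
    exact ⟨1, by rw [Nat.card_zpowers, h.ord, pow_one]⟩
  have h5 := h4.card_modEq_card_fixedPoints U
  rw [h.card] at h5
  rw [← h.fix]
  refine h5.trans ?_
  rw [Nat.card_congr (Equiv.subtypeEquivRight (fun u => ?_) :
    MulAction.fixedPoints (Subgroup.zpowers x) U ≃ {u : U // x • u = u})]
  rw [MulAction.mem_fixedPoints]
  constructor
  · intro h6
    exact h6 ⟨x, Subgroup.mem_zpowers x⟩
  · rintro h6 ⟨y, k, rfl⟩
    show x ^ k • u = u
    have h7 : x ∈ MulAction.stabilizer Y u := h6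
    exact zpow_mem h7 k

/-- [S5'] -/
theorem small5' {f : ℕ} (h : SA (U := U) 5 2 n j X x B) (hn : n ≤ 5) (hf : 1 ≤ f)
    (hI : Ineq 5 2 n j (5 ^ f) (Subgroup.centralizer ({x} : Set Y)).index) : n ≤ 4 := by
  by_contra hn4
  obtain rfl : n = 5 := by omega
  have hj := h.hj
  have hjn := h.hjn
  rcases Nat.lt_or_ge j 4 with hj4 | hj4
  · exact Cfsg.Agent.H397.GW.num5_five hj (by omega) hf (Cfsg.Agent.H727.GW.SA.index_mul_le h) hI
  rcases Nat.lt_or_ge j 5 with hj5 | hj5
  · obtain rfl : j = 4 := by omega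
    have h1 := index_mul_le_five_four h
    have h2 := Cfsg.Agent.H397.GW.num5_five' (M := (Subgroup.centralizer ({x} : Set Y)).index) (le_refl 4)
      (by omega) hf hI
    have hq : 5 ≤ 5 ^ f := Nat.le_self_pow (by omega) 5
    have h3 : 5 ^ 24 ≤ 2 ^ (2 * 4) * (Subgroup.centralizer ({x} : Set Y)).index :=
      Cfsg.Agent.H397.GW.ineq_pow hI (by norm_num) hq (by norm_num) (by norm_num)
    norm_num at h3
    omega
  · obtain rfl : j = 5 := by omega
    have h1 := SA.card_modEq h
    revert h1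
    decide

end

end Cfsg.Agent.H724.GW
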